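import Cfsg.Agent.Lib.CosetEnum.Fi23Sub_abcdefghi.DefsPart0
import Cfsg.Agent.Lib.CosetEnum.Fi23Sub_abcdefghi.DefsPart1
import Cfsg.Agent.Lib.CosetEnum.Fi23Sub_abcdefghi.StepsPart0
import Cfsg.Agent.Lib.CosetEnum.Fi23Sub_abcdefghi.StepsPart1
import Cfsg.Agent.Lib.CosetEnum.Fi23Sub_abcdefghi.StepsPart2
import Cfsg.Agent.Lib.CosetEnum.Fi23Sub_abcdefghi.StepsPart3
import Cfsg.Agent.Lib.CosetEnum.Fi23Sub_abcdefghi.StepsPart4
import Cfsg.Agent.Lib.CosetEnum.Fi23Sub_abcdefghi.StepsPart5
import Cfsg.Agent.Lib.CosetEnum.Fi23Sub_abcdefghi.StepsPart6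
import Cfsg.Agent.Lib.CosetEnum.Fi23Sub_abcdefghi.StepsPart7
import Cfsg.Agent.Lib.CosetEnum.Fi23Sub_abcdefghi.StepsPart8
import Cfsg.Agent.Lib.CosetEnum.Fi23Sub_abcdefghi.StepsPart9
import Cfsg.Agent.Lib.CosetEnum.Fi23Sub_abcdefghi.StepsPart10
import Cfsg.Agent.Lib.CosetEnum.Fi23Sub_abcdefghi.StepsPart11
import Cfsg.Agent.Lib.CosetEnum.Fi23Sub_abcdefghi.StepsPart12
import Cfsg.Agent.Lib.CosetEnum.Fi23Sub_abcdefghi.StepsPart13
import Cfsg.Agent.Lib.CosetEnum.Fi23Sub_abcdefghi.StepsPart14
import Cfsg.Agent.Lib.CosetEnum.Fi23Sub_abcdefghi.StepsPart15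
import Cfsg.Agent.Lib.CosetEnum.Fi23Sub_abcdefghi.StepsPart16
import Cfsg.Agent.Lib.CosetEnum.Fi23Sub_abcdefghi.StepsPart17
import Cfsg.Agent.Lib.CosetEnum.Fi23Sub_abcdefghi.StepsPart18
import Cfsg.Agent.Lib.CosetEnum.Fi23Sub_abcdefghi.StepsPart19
import Cfsg.Agent.Lib.CosetEnum.Fi23Sub_abcdefghi.ClosedPart0
import Cfsg.Agent.Lib.CosetEnum.Fi23Sub_abcdefghi.ClosedPart1

/-! Generated certificate. -/

set_option autoImplicit false
set_option maxRecDepth 20000

namespace Cfsg.Lib.CosetEnum.Fi23Sub_abcdefghi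

theorem step_valid {R0 : List (List Nat)} (h : shiftsOK R0 relWords = true) : step.Valid R0 where
  pos := by decide +kernel
  shifts := h
  defs := (defsOK_append (a := 8000) (b := 8799) (defsOK_append (a := 4000) (b := 4000) defs_0 defs_1) (defsOK_append (a := 4000) (b := 4799) defs_2 (defsOK_append (a := 4000) (b := 799) defs_3 defs_4)))
  steps := (stepsOK_append (m := 28500) (n := 29431) (stepsOK_append (m := 13500) (n := 15000) (stepsOK_append (m := 6000) (n := 7500) (stepsOK_append (m := 3000) (n := 3000) (stepsOK_append (m := 1500) (n := 1500) steps_0 steps_1) (stepsOK_append (m := 1500) (n := 1500) steps_2 steps_3)) (stepsOK_append (m := 3000) (n := 4500) (stepsOK_append (m := 1500) (n := 1500) steps_4 steps_5) (stepsOK_append (m := 1500) (n := 3000) steps_6 (stepsOK_append (m := 1500) (n := 1500) steps_7 steps_8)))) (stepsOK_append (m := 7500) (n := 7500) (stepsOK_append (m := 3000) (n := 4500) (stepsOK_append (m := 1500) (n := 1500) steps_9 steps_10) (stepsOK_append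 (m := 1500) (n := 3000) steps_11 (stepsOK_append (m := 1500) (n := 1500) steps_12 steps_13))) (stepsOK_append (m := 3000) (n := 4500) (stepsOK_append (m := 1500) (n := 1500) steps_14 steps_15) (stepsOK_append (m := 1500) (n := 3000) steps_16 (stepsOK_append (m := 1500) (n := 1500) steps_17 steps_18))))) (stepsOK_append (m := 15000) (n := 14431) (stepsOK_append (m := 7500) (n := 7500) (stepsOK_append (m := 3000) (n := 4500) (stepsOK_append (m := 1500) (n := 1500) steps_19 steps_20) (stepsOK_append (m := 1500) (n := 3000) steps_21 (stepsOK_append (m := 1500) (n := 1500) steps_22 steps_23))) (stepsOK_append (m := 3000) (n := 4500) (stepsOK_append (m := 1500) (n := 1500) steps_24 steps_25) (stepsOK_append (m := 1500) (n := 3000) steps_26 (stepsOK_append (m := 1500) (n := 1500) steps_27 steps_28)))) (stepsOK_append (m := 7500) (n := 6931) (stepsOK_append (m := 3000) (n := 4500) (stepsOK_append (m := 1500) (n := 1500) steps_29 steps_30) (stepsOK_append (m := 1500) (n := 3000) steps_31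 (stepsOK_append (m := 1500) (n := 1500) steps_32 steps_33))) (stepsOK_append (m := 3000) (n := 3931) (stepsOK_append (m := 1500) (n := 1500) steps_34 steps_35) (stepsOK_append (m := 1500) (n := 2431) steps_36 (stepsOK_append (m := 1500) (n := 931) steps_37 steps_38))))))
  closed := (closedOK_append (a := 8000) (b := 6080) (closedOK_append (a := 4000) (b := 4000) closed_0 closed_1) (closedOK_append (a := 4000) (b := 2080) closed_2 closed_3))

end Cfsg.Lib.CosetEnum.Fi23Sub_abcdefghi
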