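import Cfsg.Agent.Lib.CosetEnum.Fi23Sub_abcdefghi.TabF_Data0
import Cfsg.Agent.Lib.CosetEnum.Fi23Sub_abcdefghi.TabC_Data0
import Cfsg.Agent.Lib.CosetEnum.Fi23Sub_abcdefghi.TabC_Data1
import Cfsg.Agent.Lib.CosetEnum.Fi23Sub_abcdefghi.TabC_Data2
import Cfsg.Agent.Lib.CosetEnum.Fi23Sub_abcdefghi.TabC_Data3
import Cfsg.Agent.Lib.CosetEnum.Fi23Sub_abcdefghi.TabC_Data4
import Cfsg.Agent.Lib.CosetEnum.Fi23Sub_abcdefghi.TabC_Data5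
import Cfsg.Agent.Lib.CosetEnum.Fi23Sub_abcdefghi.TabC_Data6
import Cfsg.Agent.Lib.CosetEnum.Fi23Sub_abcdefghi.TabC_Data7
import Cfsg.Agent.Lib.CosetEnum.Fi23Sub_abcdefghi.TabC_Data8
import Cfsg.Agent.Lib.CosetEnum.Fi23Sub_abcdefghi.TabC_Data9
import Cfsg.Agent.Lib.CosetEnum.Fi23Sub_abcdefghi.TabC_Data10
import Cfsg.Agent.Lib.CosetEnum.Fi23Sub_abcdefghi.TabC_Data11
import Cfsg.Agent.Lib.CosetEnum.Fi23Sub_abcdefghi.TabC_Data12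
import Cfsg.Agent.Lib.CosetEnum.Fi23Sub_abcdefghi.TabC_Data13
import Cfsg.Agent.Lib.CosetEnum.Fi23Sub_abcdefghi.TabC_Data14
import Cfsg.Agent.Lib.CosetEnum.Fi23Sub_abcdefghi.TabC_Data15
import Cfsg.Agent.Lib.CosetEnum.Fi23Sub_abcdefghi.TabC_Data16
import Cfsg.Agent.Lib.CosetEnum.Fi23Sub_abcdefghi.TabC_Data17
import Cfsg.Agent.Lib.CosetEnum.Fi23Sub_abcdefghi.TabC_Data18
import Cfsg.Agent.Lib.CosetEnum.Fi23Sub_abcdefghi.TabC_Data19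
import Cfsg.Agent.Lib.CosetEnum.Fi23Sub_abcdefghi.TabC_Data20
import Cfsg.Agent.Lib.CosetEnum.Fi23Sub_abcdefghi.TabC_Data21
import Cfsg.Agent.Lib.CosetEnum.Fi23Sub_abcdefghi.TabC_Data22
import Cfsg.Agent.Lib.CosetEnum.Fi23Sub_abcdefghi.TabC_Data23
import Cfsg.Agent.Lib.CosetEnum.Fi23Sub_abcdefghi.TabC_Data24
import Cfsg.Agent.Lib.CosetEnum.Fi23Sub_abcdefghi.TabC_Data25
import Cfsg.Agent.Lib.CosetEnum.Fi23Sub_abcdefghi.TabC_Data26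
import Cfsg.Agent.Lib.CosetEnum.Fi23Sub_abcdefghi.TabC_Data27
import Cfsg.Agent.Lib.CosetEnum.Fi23Sub_abcdefghi.TabC_Data28
import Cfsg.Agent.Lib.CosetEnum.Fi23Sub_abcdefghi.TabZ_Data0
import Cfsg.Agent.Lib.CosetEnum.Fi23Sub_abcdefghi.TabZ_Data1
import Cfsg.Agent.Lib.CosetEnum.Fi23Sub_abcdefghi.TabP_Data0
import Cfsg.Agent.Lib.CosetEnum.Fi23Sub_abcdefghi.TabP_Data1

/-! Generated certificate. -/

set_option autoImplicit false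
set_option maxRecDepth 20000

namespace Cfsg.Lib.CosetEnum.Fi23Sub_abcdefghi

/-- Table. -/
def tabF : Tab :=
  tabF_0

/-- Table. -/
def tabC : Tab :=
  (.node 28672 (.node 14336 (.node 6144 (.node 2048 tabC_0 (.node 2048 tabC_1 tabC_2)) (.node 4096 (.node 2048 tabC_3 tabC_4) (.node 2048 tabC_5 tabC_6))) (.node 6144 (.node 2048 tabC_7 (.node 2048 tabC_8 tabC_9)) (.node 4096 (.node 2048 tabC_10 tabC_11) (.node 2048 tabC_12 tabC_13)))) (.node 14336 (.node 6144 (.node 2048 tabC_14 (.node 2048 tabC_15 tabC_16)) (.node 4096 (.node 2048 tabC_17 tabC_18) (.node 2048 tabC_19 tabC_20))) (.node 8192 (.node 4096 (.node 2048 tabC_21 tabC_22) (.node 2048 tabC_23 tabC_24)) (.node 4096 (.node 2048 tabC_25 tabC_26) (.node 2048 tabC_27 tabC_28)))))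

/-- Table. -/
def tabZ : Tab :=
  (.node 2048 tabZ_0 tabZ_1)

/-- Table. -/
def tabP : Tab :=
  (.node 2048 tabP_0 tabP_1)

/-- The shifts in use. -/
def relWords : List (List Nat) :=
  [[0, 0],
    [1, 1],
    [2, 2],
    [3, 3],
    [4, 4],
    [5, 5],
    [6, 6],
    [8, 8],
    [9, 9],
    [0, 1, 0, 1, 0, 1],
    [0, 2, 0, 2],
    [0, 3, 0, 3],
    [0, 4, 0, 4],
    [0, 5, 0, 5],
    [0, 6, 0, 6],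
    [0, 8, 0, 8],
    [0, 9, 0, 9],
    [1, 2, 1, 2, 1, 2],
    [1, 3, 1, 3],
    [1, 4, 1, 4],
    [1, 5, 1, 5],
    [1, 6, 1, 6],
    [1, 8, 1, 8],
    [1, 9, 1, 9],
    [2, 3, 2, 3, 2, 3],
    [2, 4, 2, 4],
    [2, 5, 2, 5],
    [2, 6, 2, 6],
    [2, 8, 2, 8],
    [2, 9, 2, 9],
    [3, 4, 3, 4, 3, 4],
    [3, 5, 3, 5],
    [3, 6, 3, 6],
    [3, 8, 3, 8, 3, 8],
    [3, 9, 3, 9],
    [4, 5, 4, 5, 4, 5],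
    [4, 6, 4, 6],
    [4, 8, 4, 8],
    [4, 9, 4, 9],
    [5, 6, 5, 6, 5, 6],
    [5, 8, 5, 8],
    [5, 9, 5, 9],
    [6, 8, 6, 8],
    [6, 9, 6, 9],
    [8, 9, 8, 9, 8, 9],
    [3, 2, 1, 3, 4, 5, 3, 8, 9, 3, 2, 1, 3, 4, 5, 3, 8, 9, 3, 2, 1, 3, 4, 5, 3, 8, 9, 3, 2, 1, 3, 4, 5, 3, 8, 9, 3, 2, 1, 3, 4, 5, 3, 8, 9, 3, 2, 1, 3, 4, 5, 3, 8, 9, 3, 2, 1, 3, 4, 5, 3, 8, 9, 3, 2, 1, 3, 4, 5, 3, 8, 9, 3, 2, 1, 3, 4, 5, 3, 8, 9, 3, 2, 1, 3, 4, 5, 3, 8, 9],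
    [0, 1, 2, 3, 4, 5, 8, 0, 1, 2, 3, 4, 5, 8, 0, 1, 2, 3, 4, 5, 8, 0, 1, 2, 3, 4, 5, 8, 0, 1, 2, 3, 4, 5, 8, 0, 1, 2, 3, 4, 5, 8, 0, 1, 2, 3, 4, 5, 8, 0, 1, 2, 3, 4, 5, 8, 0, 1, 2, 3, 4, 5, 8],
    [3, 1, 3, 1],
    [4, 1, 4, 1],
    [5, 1, 5, 1],
    [8, 1, 8, 1],
    [9, 1, 9, 1],
    [1, 0, 1, 0, 1, 0],
    [8, 2, 8, 2],
    [5, 2, 5, 2],
    [5, 3, 5, 3],
    [5, 4, 5, 4, 5, 4],
    [4, 0, 4, 0],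
    [4, 2, 4, 2],
    [4, 3, 4, 3, 4, 3],
    [8, 0, 8, 0],
    [8, 3, 8, 3, 8, 3],
    [8, 5, 8, 5],
    [8, 4, 8, 4],
    [2, 0, 2, 0],
    [3, 0, 3, 0],
    [5, 0, 5, 0],
    [2, 1, 2, 1, 2, 1],
    [9, 0, 9, 0],
    [9, 5, 9, 5],
    [9, 3, 9, 3],
    [9, 4, 9, 4],
    [9, 8, 9, 8, 9, 8],
    [9, 2, 9, 2],
    [3, 2, 3, 2, 3, 2]]

/-- Subgroup words. -/
def subWords : List (List Nat) :=
  [[1],
    [2],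
    [3],
    [4],
    [5],
    [6],
    [8],
    [9]]

/-- The certificate. -/
def step : StepCert :=
  ⟨relWords, subWords, [0, 1, 2, 3, 4, 5, 6, 8, 9], tabF, tabC, tabZ, tabP, 16799, 57931, 14080, 10⟩

end Cfsg.Lib.CosetEnum.Fi23Sub_abcdefghi
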